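import Cfsg.Agent.Solv.Fitting
import Cfsg.Agent.Transfer.Frobenius
import Cfsg.Agent.Hyp.FTProof
import Cfsg.Agent.S0200

/-! Left-normed commutator values and a nilpotency criterion for terms of the lower central
series. -/

set_option autoImplicit false

namespace CF.Bw

open Subgroup Cfsg CF.Transfer
open scoped commutatorElement

universe u

section Val
variable {G : Type*} [Group G] {H : Type*} [Group H]

/-- Left-normed commutators of length `k + 1` with entries in `S`. -/
def Val (S : Subgroup G) : ℕ → G → Prop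
  | 0, x => x ∈ S
  | k + 1, x => ∃ v g, Val S k v ∧ g ∈ S ∧ x = ⁅v, g⁆

theorem Val.mem {S : Subgroup G} : ∀ {k : ℕ} {x : G}, Val S k x → x ∈ S
  | 0, _, h => h
  | k + 1, _, ⟨v, g, hv, hg, e⟩ => by
    rw [e, commutatorElement_def]
    exact S.mul_mem (S.mul_mem (S.mul_mem hv.mem hg) (S.inv_mem hv.mem)) (S.inv_mem hg)

theorem Val.mono {S T : Subgroup G} (hST : S ≤ T) : ∀ {k : ℕ} {x : G}, Val S k x → Val T k x
  | 0, _, h => hST h
  | k + 1, _, ⟨v, g, hv, hg, e⟩ => ⟨v, g, hv.mono hST, hST hg, e⟩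

theorem Val.of_succ {S : Subgroup G} : ∀ {k : ℕ} {x : G}, Val S (k + 1) x → Val S k x
  | 0, _, h => h.mem
  | k + 1, _, ⟨v, g, hv, hg, e⟩ => ⟨v, g, hv.of_succ, hg, e⟩

theorem Val.comm {S : Subgroup G} {k : ℕ} {v g : G} (hv : Val S k v) (hg : g ∈ S) :
    Val S k ⁅v, g⁆ := Val.of_succ ⟨v, g, hv, hg, rfl⟩

theorem Val.map {S : Subgroup G} (f : G →* H) :
    ∀ {k : ℕ} {x : G}, Val S k x → Val (S.map f) k (f x)
  | 0, _, h => mem_map_of_mem f h
  | k + 1, _, ⟨v, g, hv, hg, e⟩ =>
    ⟨f v, f g, hv.map f, mem_map_of_mem f hg, by rw [e, map_commutatorElement]⟩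

theorem Val.lift {S : Subgroup G} (f : G →* H) :
    ∀ {k : ℕ} {y : H}, Val (S.map f) k y → ∃ x, Val S k x ∧ f x = y
  | 0, _, h => h
  | k + 1, _, ⟨v, g, hv, hg, e⟩ => by
    obtain ⟨v', hv', rfl⟩ := hv.lift f
    obtain ⟨g', hg', rfl⟩ := hg
    exact ⟨⁅v', g'⁆, ⟨v', g', hv', hg', rfl⟩, by rw [e, map_commutatorElement]⟩

theorem Val.conj {k : ℕ} {x : G} (h : Val ⊤ k x) (g : G) : Val ⊤ k (g * x * g⁻¹) :=
  (h.map (MulAut.conj g).toMonoidHom).mono le_top

theorem Val.inv : ∀ {k : ℕ} {x : G}, Val (⊤ : Subgroup G) k x → Val ⊤ k x⁻¹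
  | 0, _, _ => mem_top _
  | k + 1, x, ⟨v, g, hv, hg, e⟩ => by
    have h : Val (⊤ : Subgroup G) (k + 1) ⁅v, g⁻¹⁆ := ⟨v, g⁻¹, hv, mem_top _, rfl⟩
    have e' : x⁻¹ = g * ⁅v, g⁻¹⁆ * g⁻¹ := by
      rw [e, commutatorElement_def, commutatorElement_def]; group
    rw [e']
    exact h.conj g

theorem Val.mem_lcs : ∀ {k : ℕ} {x : G}, Val (⊤ : Subgroup G) k x →
    x ∈ (⊤ : Subgroup G).lowerCentralSeries k
  | 0, _, _ => mem_top _
  | k + 1, x, ⟨v, g, hv, hg, e⟩ => by
    rw [e, Subgroup.lowerCentralSeries_succ]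
    exact commutator_mem_commutator hv.mem_lcs (mem_top _)

theorem lcs_le : ∀ (k : ℕ) (K : Subgroup G) [K.Normal], (∀ x, Val ⊤ k x → x ∈ K) →
    (⊤ : Subgroup G).lowerCentralSeries k ≤ K
  | 0, K, _, h => fun x _ => h x (mem_top _)
  | k + 1, K, _, h => by
    have h1 := lcs_le k ((center (G ⧸ K)).comap (QuotientGroup.mk' K)) (fun x hx => by
      rw [mem_comap, mem_center_iff]
      intro y
      obtain ⟨g, rfl⟩ := QuotientGroup.mk'_surjective K y
      have h2 := h _ ⟨x, g, hx, mem_top _, rfl⟩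
      rw [← QuotientGroup.eq_one_iff] at h2
      have h3 : ⁅QuotientGroup.mk' K x, QuotientGroup.mk' K g⁆ = 1 := by
        rw [← map_commutatorElement]; exact h2
      exact (commutatorElement_eq_one_iff_mul_comm.1 h3).symm)
    rw [Subgroup.lowerCentralSeries_succ, commutator_le]
    intro x hx g _
    have h2 := h1 hx
    rw [mem_comap, mem_center_iff] at h2
    rw [← QuotientGroup.eq_one_iff]
    show QuotientGroup.mk' K ⁅x, g⁆ = 1
    rw [map_commutatorElement]
    exact commutatorElement_eq_one_iff_mul_comm.2 (h2 _).symm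

theorem val_iff_list : ∀ (k : ℕ) (x : G), Val (⊤ : Subgroup G) k x ↔
    ∃ (a : G) (l : List G), l.length = k ∧ x = l.foldl (fun a b => a * b * a⁻¹ * b⁻¹) a
  | 0, x => ⟨fun _ => ⟨x, [], rfl, rfl⟩, fun _ => mem_top _⟩
  | k + 1, x => by
    constructor
    · rintro ⟨v, g, hv, -, e⟩
      obtain ⟨a, l, hl, rfl⟩ := (val_iff_list k v).1 hv
      refine ⟨a, l ++ [g], by simp [hl], ?_⟩
      rw [e, List.foldl_append, commutatorElement_def]
      rfl
    · rintro ⟨a, l, hl, e⟩
      have hne : l ≠ [] := by rintro rfl; simp at hl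
      obtain ⟨l', g, rfl⟩ := List.eq_nil_or_concat' l |>.resolve_left hne
      refine ⟨l'.foldl (fun a b => a * b * a⁻¹ * b⁻¹) a, g,
        (val_iff_list k _).2 ⟨a, l', by simpa using hl, rfl⟩, mem_top _, ?_⟩
      rw [e, List.foldl_append, commutatorElement_def]
      rfl

theorem val_iff_fn (k : ℕ) (x : G) : Val (⊤ : Subgroup G) k x ↔ ∃ f : Fin (k + 1) → G,
    x = ((List.ofFn f).tail).foldl (fun a b => a * b * a⁻¹ * b⁻¹) (f 0) := by
  rw [val_iff_list]
  constructor
  · rintro ⟨a, l, rfl, e⟩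
    refine ⟨Fin.cons a l.get, ?_⟩
    rw [e, List.ofFn_succ]
    simp
  · rintro ⟨f, e⟩
    exact ⟨f 0, (List.ofFn f).tail, by simp, e⟩

/-- Iterated commutator `[y, a, …, a]`. -/
def eng (a : G) : ℕ → G → G
  | 0, y => y
  | n + 1, y => ⁅eng a n y, a⁆

theorem map_eng (f : G →* H) (a : G) : ∀ (n : ℕ) (y : G), f (eng a n y) = eng (f a) n (f y)
  | 0, _ => rfl
  | n + 1, y => by rw [eng, eng, map_commutatorElement, map_eng f a n y]

theorem val_eng (a : G) : ∀ (n : ℕ) (y : G), Val ⊤ n (eng a n y)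
  | 0, _ => mem_top _
  | n + 1, y => ⟨_, a, val_eng a n y, mem_top _, rfl⟩

theorem comm_mem {Q : Subgroup G} {a y : G} (ha : a ∈ normalizer (Q : Set G)) (hy : y ∈ Q) :
    ⁅y, a⁆ ∈ Q := by
  have h : ⁅y, a⁆ = y * (a * y⁻¹ * a⁻¹) := by rw [commutatorElement_def]; group
  rw [h]
  exact Q.mul_mem hy (conj_mem_of_mem_normalizer ha (Q.inv_mem hy))

theorem eng_mem {Q : Subgroup G} {a : G} (ha : a ∈ normalizer (Q : Set G)) :
    ∀ (n : ℕ) {y : G}, y ∈ Q → eng a n y ∈ Q
  | 0, _, hy => hy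
  | n + 1, _, hy => comm_mem ha (eng_mem ha n hy)

theorem comm_pow_right {v w : G} (h : Commute ⁅v, w⁆ w) (n : ℕ) : ⁅v, w ^ n⁆ = ⁅v, w⁆ ^ n := by
  have e1 : v * w * v⁻¹ = ⁅v, w⁆ * w := by rw [commutatorElement_def]; group
  have e2 : v * w ^ n * v⁻¹ = ⁅v, w⁆ ^ n * w ^ n := by rw [← conj_pow, e1, h.mul_pow]
  rw [commutatorElement_def, e2]; group

theorem comm_eq_one_of_coprime {y a : G} (h : ⁅⁅y, a⁆, a⁆ = 1)
    (hc : (orderOf ⁅y, a⁆).Coprime (orderOf a)) : ⁅y, a⁆ = 1 := by
  have h1 := comm_pow_right (commutatorElement_eq_one_iff_commute.1 h) (orderOf a)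
  rw [pow_orderOf_eq_one, commutatorElement_one_right] at h1
  exact orderOf_eq_one_iff.1 (hc.eq_one_of_dvd (orderOf_dvd_of_pow_eq_one h1.symm))

theorem eng_eq_one {Q : Subgroup G} {a : G} (ha : a ∈ normalizer (Q : Set G))
    (hc : ∀ c ∈ Q, (orderOf c).Coprime (orderOf a)) {y : G} (hy : y ∈ Q) :
    ∀ n, eng a n y = 1 → ⁅y, a⁆ = 1
  | 0, h => by rw [show y = 1 from h, commutatorElement_one_left]
  | 1, h => h
  | n + 2, h => eng_eq_one ha hc hy (n + 1)
      (comm_eq_one_of_coprime h (hc _ (eng_mem ha (n + 1) hy)))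

theorem eng_pow {A : Subgroup G} {a : G} (ha : a ∈ normalizer (A : Set G))
    (hA : ∀ x ∈ A, ∀ y ∈ A, Commute x y) (m : ℕ) :
    ∀ (n : ℕ) {y : G}, y ∈ A → eng a n (y ^ m) = eng a n y ^ m
  | 0, _, _ => rfl
  | n + 1, y, hy => by
    rw [eng, eng, eng_pow ha hA m n hy]
    have hz := eng_mem ha n hy
    generalize eng a n y = z at hz
    have e : ∀ w : G, ⁅w, a⁆ = w * (a * w⁻¹ * a⁻¹) := fun w => by
      rw [commutatorElement_def]; group
    rw [e, e, (hA _ hz _ (conj_mem_of_mem_normalizer ha (A.inv_mem hz))).mul_pow, conj_pow,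
      inv_pow]

end Val

/-- The hypothesis extracted from the order condition. -/
def Star (k : ℕ) (G : Type*) [Group G] : Prop :=
  ∀ x y : G, Val ⊤ k x → (orderOf ⁅x, y⁆).Coprime (orderOf x) → ⁅x, y⁆ = 1

section Main
variable {G : Type*} [Group G] [Finite G] {k : ℕ}

theorem Star.subgroup (h : Star k G) (K : Subgroup G) : Star k K := fun x y hx hc => by
  have h1 := h x y ((hx.map K.subtype).mono le_top) (by
    rw [← orderOf_coe, ← orderOf_coe] at hc
    exact hc)
  exact Subtype.ext h1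

theorem coprime_of_pGroups {p q : ℕ} [Fact p.Prime] [Fact q.Prime] (hpq : p ≠ q)
    {P Q : Subgroup G} (hP : IsPGroup p P) (hQ : IsPGroup q Q) {x y : G} (hx : x ∈ P)
    (hy : y ∈ Q) : (orderOf x).Coprime (orderOf y) := by
  obtain ⟨i, hi⟩ := orderOf_eq_pow_of_mem hP hx
  obtain ⟨j, hj⟩ := orderOf_eq_pow_of_mem hQ hy
  rw [hi, hj]
  exact Nat.Coprime.pow i j ((Nat.coprime_primes Fact.out Fact.out).2 hpq)

theorem coprime_of_pGroup {p : ℕ} [Fact p.Prime] {P : Subgroup G} (hP : IsPGroup p P) {x a : G}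
    (hx : x ∈ P) (ha : (orderOf a).Coprime p) : (orderOf x).Coprime (orderOf a) := by
  obtain ⟨i, hi⟩ := orderOf_eq_pow_of_mem hP hx
  rw [hi]
  exact (Nat.Coprime.pow_right i ha).symm

theorem Star.cent (h : Star k G) {p q : ℕ} [Fact p.Prime] [Fact q.Prime] (hpq : p ≠ q)
    {N Q : Subgroup G} [hN : N.Normal] (hp : IsPGroup p N) (hq : IsPGroup q Q) {x : G}
    (hx : x ∈ Q) (hv : Val ⊤ k x) : x ∈ centralizer (N : Set G) := by
  rw [mem_centralizer_iff]
  intro y hy
  have h1 : ⁅x, y⁆ ∈ N := by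
    rw [commutatorElement_def]
    exact N.mul_mem (hN.conj_mem y hy x) (N.inv_mem hy)
  exact (commutatorElement_eq_one_iff_mul_comm.1 (h x y hv (coprime_of_pGroups hpq hp hq h1 hx))).symm

theorem lift_pair {H : Type*} [Group H] {p : ℕ} [Fact p.Prime] (f : G →* H)
    (hf : Function.Surjective f) {Q : Subgroup H} (hQ : IsPGroup p Q) {b : H}
    (hb : b ∈ normalizer (Q : Set H)) (hc : (orderOf b).Coprime p) :
    ∃ S : Subgroup G, IsPGroup p S ∧ S.map f = Q ∧ ∃ a ∈ normalizer (S : Set G),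
      (orderOf a).Coprime p ∧ f a = b := by
  have : Finite H := Finite.of_surjective f hf
  obtain ⟨S, hS⟩ := exists_isSylowIn p (Q.comap f)
  have hk : f.ker ≤ Q.comap f := ker_le_comap f Q
  obtain ⟨j, hj⟩ : ∃ j, f.ker.relIndex (Q.comap f) = p ^ j := by
    rw [relIndex_ker, map_comap_eq_self_of_surjective hf]
    exact hQ.exists_card_eq
  have hsup := hS.le_sup_of_relIndex hk hj
  have hmap : S.map f = Q := by
    rw [← map_comap_eq_self_of_surjective hf Q, ← hsup, Subgroup.map_sup,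
      (Subgroup.map_eq_bot_iff _).2 le_rfl, sup_bot_eq]
  obtain ⟨g, rfl⟩ := hf b
  have hg : g ∈ normalizer ((Q.comap f : Subgroup G) : Set G) := le_normalizer_comap f hb
  obtain ⟨y, hy, n, hn, rfl⟩ := hS.frattini' hg
  have hn' : f n ∈ S.map f := by rw [hmap]; exact hn
  obtain ⟨s, hs, hsn⟩ := hn'
  have e : f (y * s) = f (y * n) := by rw [map_mul, map_mul, hsn]
  obtain ⟨z, hz, hzc, hzf⟩ := exists_coprime_lift (p := p) f
    (isOfFinOrder_of_finite (y * s)) (by rw [e]; exact hc)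
  exact ⟨S, hS.isPGroup, hmap, z,
    zpowers_le.2 ((normalizer (S : Set G)).mul_mem hy (le_normalizer hs)) hz, hzc, hzf.trans e⟩

theorem Star.lcs_cent (h : Star k G) {p : ℕ} [Fact p.Prime] (N : Subgroup G) [N.Normal]
    (hp : IsPGroup p N) {x : G} (hx : x ∈ (⊤ : Subgroup G).lowerCentralSeries k)
    (hc : (orderOf x).Coprime p) : x ∈ centralizer (N : Set G) := by
  set C := centralizer (N : Set G) with hC
  have hf := QuotientGroup.mk'_surjective C
  set f := QuotientGroup.mk' C with hfd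
  have hker : ∀ y, y ∈ C → f y = 1 := fun y hy => (QuotientGroup.eq_one_iff y).2 hy
  rw [← QuotientGroup.eq_one_iff, ← orderOf_eq_one_iff]
  by_contra hne
  obtain ⟨q, hq, hqd⟩ := Nat.exists_prime_and_dvd hne
  have : Fact q.Prime := ⟨hq⟩
  have hpq : p ≠ q := by
    rintro rfl
    exact hq.one_lt.ne' (Nat.Coprime.eq_one_of_dvd hc.symm (hqd.trans (orderOf_map_dvd f x)))
  have hnpc : HasNormalPComplement q (G ⧸ C) := by
    refine frobenius_hasNPC' fun Q hQ _ b hb hbc => ?_
    obtain ⟨S, hS, rfl, a, ha, -, rfl⟩ := lift_pair f hf hQ hb hbc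
    rw [mem_centralizer_iff]
    rintro _ ⟨y, hy, rfl⟩
    refine commutatorElement_eq_one_iff_mul_comm.1 (eng_eq_one hb
      (fun c hc' => coprime_of_pGroup hQ hc' hbc) (mem_map_of_mem f hy) k ?_)
    rw [← map_eng]
    exact hker _ (h.cent hpq hp hS (eng_mem ha k hy) (val_eng a k y))
  have hmem : f x ∈ pResidual q (G ⧸ C) := by
    refine lcs_le k ((pResidual q (G ⧸ C)).comap f) (fun v hv => ?_) hx
    obtain ⟨Q⟩ : Nonempty (Sylow q G) := inferInstance
    let g := (QuotientGroup.mk' (pResidual q (G ⧸ C))).comp f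
    have hg : Function.Surjective g := (QuotientGroup.mk'_surjective _).comp hf
    have hQ : (Q : Subgroup G).map g = ⊤ := by
      rw [← Subgroup.map_top_of_surjective g hg, ← sylow_sup_pResidual Q, Subgroup.map_sup,
        (Subgroup.map_eq_bot_iff _).2 (pResidual_le_ker isPGroup_quotient_pResidual g), sup_bot_eq]
    have h1 : Val ((Q : Subgroup G).map g) k (g v) := by
      rw [hQ]; exact (hv.map g).mono le_top
    obtain ⟨w, hw, hwv⟩ := h1.lift g
    rw [mem_comap, ← QuotientGroup.eq_one_iff]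
    show g v = 1
    rw [← hwv]
    show QuotientGroup.mk' _ (f w) = 1
    rw [hker w (h.cent hpq hp Q.isPGroup' hw.mem (hw.mono le_top)), map_one]
  exact hq.one_lt.ne' (Nat.Coprime.eq_one_of_dvd (hasNPC_iff_forall_mem.1 hnpc _ hmem).symm hqd)

theorem nilpotent_of_cent [Group.IsSolvable G]
    (h : ∀ (p : ℕ) (_ : Fact p.Prime) (x : G), (orderOf x).Coprime p →
      x ∈ centralizer (pCore p G : Set G)) : Group.IsNilpotent G := by
  rw [← CF.Solv.fitting_eq_top_iff]
  by_contra hne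
  set F := fittingSubgroup G
  have : Nontrivial (G ⧸ F) := QuotientGroup.nontrivial_iff.2 hne
  obtain ⟨r, hr, hb⟩ := CF.Solv.exists_pCore_ne_bot (G := G ⧸ F)
  have : Fact r.Prime := ⟨hr⟩
  have hf := QuotientGroup.mk'_surjective F
  set f := QuotientGroup.mk' F with hfd
  set L := (pCore r (G ⧸ F)).comap f with hL
  obtain ⟨R, hR⟩ := exists_isSylowIn r L
  have hFL : F ≤ L := CF.Solv.le_comap_mk' F _
  obtain ⟨j, hj⟩ : ∃ j, F.relIndex L = r ^ j := by
    rw [← CF.Solv.card_map_mk', CF.Solv.map_comap_mk']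
    exact CF.Solv.pCore_isPGroup.exists_card_eq
  have hsup := hR.le_sup_of_relIndex hFL hj
  have hFR : F ≤ normalizer (R : Set G) := by
    refine CF.Solv.fitting_le_iff.2 fun p hp => ?_
    by_cases hpr : p = r
    · subst hpr
      exact (hR.le_of_normalized CF.Solv.pCore_isPGroup (CF.Solv.pCore_le_fitting.trans hFL)
        (le_normalizer_of_normal)).trans le_normalizer
    · refine le_trans ?_ (centralizer_le_normalizer _)
      rw [le_centralizer_iff]
      intro x hx
      obtain ⟨i, hi⟩ := orderOf_eq_pow_of_mem hR.isPGroup hx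
      refine h p hp x ?_
      rw [hi]
      exact Nat.Coprime.pow_left i ((Nat.coprime_primes hr hp.out).2 (Ne.symm hpr))
  have hLR : L ≤ normalizer (R : Set G) := by
    rw [← hsup]; exact sup_le le_normalizer hFR
  have hRn : R.Normal := by
    rw [← normalizer_eq_top_iff, eq_top_iff]
    intro g _
    obtain ⟨y, hy, n, hn, rfl⟩ := hR.frattini' (h := g) (le_normalizer_of_normal (mem_top g))
    exact (normalizer (R : Set G)).mul_mem hy (hLR hn)
  have hRF : R ≤ F := (CF.Solv.le_pCore hR.isPGroup).trans CF.Solv.pCore_le_fitting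
  apply hb
  rw [← CF.Solv.map_comap_mk' F (pCore r (G ⧸ F)), CF.Solv.map_mk'_eq_bot_iff, ← hL, ← hsup]
  exact sup_le hRF le_rfl

theorem Star.nilpotent (h : Star k G) [Group.IsSolvable G] :
    Group.IsNilpotent ((⊤ : Subgroup G).lowerCentralSeries k) := by
  set Γ := (⊤ : Subgroup G).lowerCentralSeries k
  refine nilpotent_of_cent fun p hp x hx => ?_
  have h1 := h.lcs_cent (p := p) ((pCore p Γ).map Γ.subtype) (CF.Solv.isPGroup_map_pCore Γ) x.2
    (by rw [orderOf_coe]; exact hx)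
  rw [mem_centralizer_iff] at h1 ⊢
  intro y hy
  exact Subtype.ext (h1 y (mem_map_of_mem Γ.subtype hy))

theorem exists_pow_orderOf_two {c : G} (hc : c ≠ 1) {j : ℕ} (hj : orderOf c = 2 ^ j) :
    ∃ m, orderOf (c ^ m) = 2 := by
  obtain _ | j := j
  · exact absurd (orderOf_eq_one_iff.1 hj) hc
  refine ⟨2 ^ j, ?_⟩
  rw [orderOf_pow' _ (by positivity), hj, pow_succ, Nat.gcd_eq_right (Dvd.intro _ rfl),
    Nat.mul_div_cancel_left _ (by positivity)]

/-- A value in `D` whose image modulo a central subgroup is an involution. -/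
theorem exists_val_invol {H : Type*} [Group H] [Finite H] (f : G →* H) (hk : f.ker ≤ center G)
    {D : Subgroup G} (hD : IsPGroup 2 D) {a : G} (ha : a ∈ normalizer (D : Set G))
    (hao : (orderOf a).Coprime 2) (hna : a ∉ centralizer (D : Set G)) (k : ℕ) :
    ∃ t ∈ D, Val ⊤ k t ∧ orderOf (f t) = 2 := by
  have : Fact (Nat.Prime 2) := ⟨Nat.prime_two⟩
  have hE : IsPGroup 2 (D.map f) := hD.map f
  set E := D.map f with hEd
  by_contra hcon
  push Not at hcon
  have hall : ∀ v ∈ D, Val ⊤ k v → f v ∈ centralizer (E : Set H) := by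
    by_contra hT
    push Not at hT
    have step : ∀ n, ∃ v ∈ D, Val ⊤ k v ∧ f v ∉ centralizer (E : Set H) ∧
        f v ∈ E.lowerCentralSeries n := by
      intro n
      induction n with
      | zero =>
        obtain ⟨v, hv, h1, h2⟩ := hT
        exact ⟨v, hv, h1, h2, mem_map_of_mem f hv⟩
      | succ n ih =>
        obtain ⟨v, hv, h1, h2, h3⟩ := ih
        by_contra hno
        push Not at hno
        apply h2
        rw [mem_centralizer_iff]
        rintro _ ⟨w, hw, rfl⟩
        by_contra hne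
        have hc : ⁅f v, f w⁆ ≠ 1 := fun e =>
          hne (commutatorElement_eq_one_iff_mul_comm.1 e).symm
        have hvw : ⁅v, w⁆ ∈ D := Val.mem (k := 1) ⟨v, w, hv, hw, rfl⟩
        have hcen : f ⁅v, w⁆ ∈ centralizer (E : Set H) := by
          by_contra hnc
          refine hno _ hvw (h1.comm (mem_top w)) hnc ?_
          rw [map_commutatorElement, Subgroup.lowerCentralSeries_succ]
          exact commutator_mem_commutator h3 (mem_map_of_mem f hw)
        obtain ⟨j, hj⟩ := orderOf_eq_pow_of_mem hE (mem_map_of_mem f hvw)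
        rw [map_commutatorElement] at hj hcen
        obtain ⟨m, hm⟩ := exists_pow_orderOf_two hc hj
        refine hcon ⁅v, w ^ m⁆ (Val.mem (k := 1) ⟨v, w ^ m, hv, D.pow_mem hw m, rfl⟩)
          (h1.comm (mem_top _)) ?_
        rw [map_commutatorElement, map_pow, comm_pow_right, hm]
        exact (mem_centralizer_iff.1 hcen _ (mem_map_of_mem f hw)).symm
    have := hE.isNilpotent
    obtain ⟨v, -, -, h2, h3⟩ := step (Group.nilpotencyClass E)
    rw [Subgroup.lowerCentralSeries_eq_bot_of_nilpotencyClass_le le_rfl, mem_bot] at h3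
    exact h2 (h3 ▸ one_mem _)
  have hc : ∀ c ∈ D, (orderOf c).Coprime (orderOf a) := fun c hc => coprime_of_pGroup hD hc hao
  obtain ⟨y, hy, hya⟩ : ∃ y ∈ D, ⁅y, a⁆ ≠ 1 := by
    by_contra hno
    push Not at hno
    exact hna (mem_centralizer_iff.2 fun y hy =>
      commutatorElement_eq_one_iff_mul_comm.1 (hno y hy))
  have hy1 : ⁅eng a k y, a⁆ ≠ 1 := fun e => hya (eng_eq_one ha hc hy (k + 1) e)
  have hy1D := eng_mem ha k hy
  have hy1A : f (eng a k y) ∈ E ⊓ centralizer (E : Set H) :=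
    mem_inf.2 ⟨mem_map_of_mem f hy1D, hall _ hy1D (val_eng a k y)⟩
  generalize eng a k y = z at hy1 hy1D hy1A
  have hfa : f a ∈ normalizer ((E ⊓ centralizer (E : Set H) : Subgroup H) : Set H) := by
    have h1 : f a ∈ normalizer (E : Set H) := le_normalizer_map f (mem_map_of_mem f ha)
    exact inf_normalizer_le_normalizer_inf
      (mem_inf.2 ⟨h1, normalizer_le_normalizer_centralizer E h1⟩)
  have hne : eng (f a) k (f z) ≠ 1 := by
    intro e
    rw [← map_eng] at e
    exact hy1 (eng_eq_one ha hc hy1D (k + 1)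
      (commutatorElement_eq_one_iff_mul_comm.2 (mem_center_iff.1 (hk e) a).symm))
  obtain ⟨j, hj⟩ := orderOf_eq_pow_of_mem hE (mem_map_of_mem f (eng_mem ha k hy1D))
  rw [map_eng] at hj
  obtain ⟨m, hm⟩ := exists_pow_orderOf_two hne hj
  refine hcon (eng a k (z ^ m)) (eng_mem ha k (D.pow_mem hy1D m)) (val_eng a k _) ?_
  rw [map_eng, map_pow, eng_pow hfa (fun x hx y hy =>
    mem_centralizer_iff.1 (mem_inf.1 hy).2 x (mem_inf.1 hx).1) m k hy1A, hm]

theorem solvable_of_normal (N : Subgroup G) [N.Normal] [Group.IsSolvable N]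
    [Group.IsSolvable (G ⧸ N)] : Group.IsSolvable G :=
  solvable_of_ker_le_range N.subtype (QuotientGroup.mk' N) (by simp)

end Main

theorem Star.solvable (G : Type u) [Group G] [Finite G] : ∀ k, Star k G → Group.IsSolvable G := by
  refine CF.Solv.group_induction (P := fun G _ _ => ∀ k, Star k G → Group.IsSolvable G) ?_ G
  intro G _ _ ih k h
  have : Fact (Nat.Prime 2) := ⟨Nat.prime_two⟩
  by_contra hns
  have hsub : ∀ K : Subgroup G, K ≠ ⊤ → Group.IsSolvable K := fun K hK =>
    ih K (CF.Solv.card_lt_of_ne_top hK) k (h.subgroup K)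
  have hq : ∀ N : Subgroup G, ∀ _ : N.Normal, Group.IsSolvable (G ⧸ N) → N = ⊤ := by
    intro N _ hN
    by_contra hne
    have := hsub N hne
    exact hns (solvable_of_normal N)
  have hΓ : (⊤ : Subgroup G).lowerCentralSeries k = ⊤ := by
    refine hq _ inferInstance ?_
    have : Group.IsNilpotent (G ⧸ (⊤ : Subgroup G).lowerCentralSeries k) := by
      refine Subgroup.nilpotent_iff_lowerCentralSeries.2 ⟨k, ?_⟩
      rw [← Subgroup.map_top_of_surjective _ (QuotientGroup.mk'_surjective _),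
        ← Subgroup.map_lowerCentralSeries, CF.Solv.map_mk'_eq_bot_iff]
    infer_instance
  have hF : fittingSubgroup G ≤ center G := by
    refine CF.Solv.fitting_le_iff.2 fun p hp => ?_
    have h1 : centralizer (pCore p G : Set G) = ⊤ := by
      refine hq _ inferInstance ?_
      have h2 : IsPGroup p (G ⧸ centralizer (pCore p G : Set G)) :=
        isPGroup_quotient_of_pResidual_le (pResidual_le_iff'.2 fun x hx =>
          h.lcs_cent _ CF.Solv.pCore_isPGroup (by rw [hΓ]; exact mem_top x) hx)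
      have := h2.isNilpotent
      infer_instance
    intro x hx
    rw [mem_center_iff]
    intro g
    exact (mem_centralizer_iff.1 (show g ∈ centralizer (pCore p G : Set G) by
      rw [h1]; exact mem_top g) x hx).symm
  have hnpc : ¬ HasNormalPComplement 2 G := by
    intro hn
    have h1 : Group.IsSolvable (pResidual 2 G) :=
      CF.Hyp.isSolvable_of_odd (Nat.coprime_two_right.1 (hasNPC_iff_coprime.1 hn))
    have h2 := (isPGroup_quotient_pResidual (p := 2) (G := G)).isNilpotent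
    exact hns (solvable_of_normal (pResidual 2 G))
  obtain ⟨D, hD, a, ha, hao, hna⟩ : ∃ D : Subgroup G, IsPGroup 2 D ∧
      ∃ a ∈ normalizer (D : Set G), (orderOf a).Coprime 2 ∧ a ∉ centralizer (D : Set G) := by
    by_contra hno
    push Not at hno
    exact hnpc (frobenius_hasNPC' fun Q hQ _ => hno Q hQ)
  have hf := QuotientGroup.mk'_surjective (center G)
  set f := QuotientGroup.mk' (center G) with hfd
  have hk : f.ker ≤ center G := (QuotientGroup.ker_mk' _).le
  obtain ⟨t, htD, htv, ht⟩ := exists_val_invol f hk hD ha hao hna k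
  obtain ⟨y, hy1, hyo, hty⟩ := Cfsg.Agent.S0200.result (f t) ht (by
    intro N _ hN htN
    have := hN.isNilpotent
    have h1 : t ∈ (fittingSubgroup (G ⧸ center G)).comap f := CF.Solv.le_fitting N htN
    rw [CF.Solv.comap_fitting_of_ker_le_center hf hk] at h1
    have h2 : f t = 1 := (QuotientGroup.eq_one_iff t).2 (hF h1)
    rw [h2, orderOf_one] at ht
    exact absurd ht (by decide))
  obtain ⟨x, rfl⟩ := hf y
  obtain ⟨z, -, hzo, hz⟩ := exists_coprime_lift (p := 2) f (isOfFinOrder_of_finite x)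
    (Nat.coprime_two_right.2 hyo)
  rw [← hz] at hy1 hyo hty
  have hc : t * z * t⁻¹ * z ∈ center G := by
    apply hk
    rw [MonoidHom.mem_ker, map_mul, map_mul, map_mul, map_inv, hty, inv_mul_cancel]
  have hcom : Commute (t * z * t⁻¹) z⁻¹ := by
    have h1 := mem_center_iff.1 hc z
    have h2 : Commute (t * z * t⁻¹) z := by
      apply mul_right_cancel (b := z)
      rw [← h1]; group
    exact h2.inv_right
  have ho : (orderOf ⁅t, z⁆).Coprime 2 := by
    rw [commutatorElement_def]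
    refine Nat.Coprime.of_dvd_left hcom.orderOf_mul_dvd_mul_orderOf ?_
    rw [orderOf_conj', orderOf_inv]
    exact Nat.Coprime.mul_left hzo hzo
  have h1 := h t z htv (coprime_of_pGroup hD htD ho).symm
  have h2 : f t * f z * (f t)⁻¹ = f z := by
    rw [← map_inv, ← map_mul, ← map_mul, commutatorElement_eq_one_iff_mul_comm.1 h1,
      mul_inv_cancel_right]
  have h3 : f z ^ 2 = 1 := by
    rw [pow_two]
    nth_rewrite 1 [← h2]
    rw [hty, inv_mul_cancel]
  exact hy1 (orderOf_eq_one_iff.1 (Nat.Coprime.eq_one_of_dvd (Nat.coprime_two_right.2 hyo)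
    (orderOf_dvd_of_pow_eq_one h3)))

end CF.Bw
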