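import Cfsg.Agent.Mx23.Bw
import Cfsg.Agent.Solv.Hall
import Cfsg.Agent.S3188
import Cfsg.Agent.S0811
import Cfsg.Agent.S0812
import Cfsg.Agent.Classical.SmallIso

/-! Groups with a cyclic Sylow `p`-subgroup whose `p'`-subgroups are abelian. -/

set_option autoImplicit false

namespace CF.Cy

open Subgroup Cfsg CF.Transfer

universe u

/-- Cyclic `p`-subgroups and abelian `p'`-subgroups. -/
structure Hy (p : ℕ) (G : Type*) [Group G] : Prop where
  cyc : ∀ Q : Subgroup G, IsPGroup p Q → IsCyclic Q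
  ab : ∀ H : Subgroup G, ¬ p ∣ Nat.card H → IsMulCommutative H

variable {G : Type*} [Group G] [Finite G] {p : ℕ} [hp : Fact p.Prime]

theorem Hy.of_injective {H : Type*} [Group H] (h : Hy p G) (f : H →* G)
    (hf : Function.Injective f) : Hy p H where
  cyc Q hQ := by
    have := h.cyc _ (hQ.map f)
    exact isCyclic_of_injective (equivMapOfInjective Q f hf).toMonoidHom
      (equivMapOfInjective Q f hf).injective
  ab K hK := by
    have := h.ab (K.map f) (by rwa [card_map_of_injective hf])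
    refine ⟨⟨fun a b => Subtype.ext (hf ?_)⟩⟩
    rw [coe_mul, coe_mul, map_mul, map_mul]
    exact mul_comm_of_mem_isMulCommutative _ (mem_map_of_mem f a.2) (mem_map_of_mem f b.2)

theorem Hy.quotient (h : Hy p G) (N : Subgroup G) [N.Normal] : Hy p (G ⧸ N) where
  cyc Q hQ := by
    obtain ⟨S, hS, rfl, -⟩ := CF.Bw.lift_pair _ (QuotientGroup.mk'_surjective N) hQ (one_mem _)
      (by rw [orderOf_one]; exact Nat.coprime_one_left p)
    have := h.cyc S hS
    exact isCyclic_of_surjective _ ((QuotientGroup.mk' N).subgroupMap_surjective S)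
  ab K hK := by
    set H := K.comap (QuotientGroup.mk' N) with hH
    have hNH : N ≤ H := CF.Solv.le_comap_mk' N K
    obtain ⟨P, hP⟩ := exists_isSylowIn p N
    have hidx : ¬ p ∣ P.relIndex H := by
      rw [← relIndex_mul_relIndex P N H hP.le hNH, hp.out.dvd_mul, ← CF.Solv.card_map_mk' N,
        CF.Solv.map_comap_mk']
      exact fun h' => h'.elim hP.not_dvd hK
    have hPH : IsSylowIn p P H := ⟨hP.le.trans hNH, hP.isPGroup, hidx⟩
    have hPM : IsSylowIn p P (H ⊓ normalizer (P : Set G)) :=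
      hPH.of_le (le_inf hPH.le le_normalizer) inf_le_left
    obtain ⟨L, hLM, -, hsup, hc⟩ := CF.Solv.exists_complement_of_coprime hPM.le inf_le_right
      hPM.card_coprime_relIndex
    have hL := h.ab L (hc ▸ hPM.not_dvd)
    have key : ∀ x ∈ K, ∃ l ∈ L, QuotientGroup.mk' N l = x := by
      intro x hx
      obtain ⟨g, rfl⟩ := QuotientGroup.mk'_surjective N x
      obtain ⟨y, hy, n, hn, rfl⟩ := hP.frattini' (h := g) (le_normalizer_of_normal (mem_top g))
      have hyH : y ∈ H := (H.mul_mem_cancel_right (hNH hn)).1 hx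
      have hy' : y ∈ P ⊔ L := by rw [hsup]; exact mem_inf.2 ⟨hyH, hy⟩
      obtain ⟨a, ha, l, hl, rfl⟩ :=
        (CF.Solv.mem_sup_of_le_normalizer' (hLM.trans inf_le_right)).1 hy'
      refine ⟨l, hl, ?_⟩
      have h1 : QuotientGroup.mk' N a = 1 := (QuotientGroup.eq_one_iff a).2 (hP.le ha)
      have h2 : QuotientGroup.mk' N n = 1 := (QuotientGroup.eq_one_iff n).2 hn
      rw [map_mul, map_mul, h1, h2, one_mul, mul_one]
    refine ⟨⟨fun a b => Subtype.ext ?_⟩⟩
    obtain ⟨l, hl, e⟩ := key a a.2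
    obtain ⟨l', hl', e'⟩ := key b b.2
    rw [coe_mul, coe_mul, ← e, ← e', ← map_mul, ← map_mul,
      mul_comm_of_mem_isMulCommutative L hl hl']

theorem Hy.commute (h : Hy p G) {K : Subgroup G} (hK : (Nat.card K).Coprime p) {g : G}
    (hn : g ∈ normalizer (K : Set G)) (hg : (orderOf g).Coprime p) :
    g ∈ centralizer (K : Set G) := by
  have h1 : ¬ p ∣ Nat.card (zpowers g ⊔ K : Subgroup G) := fun hd => by
    have h2 := hd.trans (CF.Solv.card_sup_dvd_of_le_normalizer (zpowers_le.2 hn))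
    rw [Nat.card_zpowers] at h2
    exact hp.out.one_lt.ne' (Nat.Coprime.eq_one_of_dvd (hg.mul_left hK).symm h2)
  have := h.ab _ h1
  rw [mem_centralizer_iff]
  intro x hx
  exact mul_comm_of_mem_isMulCommutative (zpowers g ⊔ K) (mem_sup_right hx)
    (mem_sup_left (mem_zpowers g))

theorem Hy.solv_case [Group.IsSolvable G] (h : Hy p G) (P : Sylow p G) :
    HasNormalPComplement p G ∨ (P : Subgroup G).Normal := by
  have := h.cyc P P.isPGroup'
  refine (P.normalizer_le_centralizer_or_le_commutator).imp (burnside_hasNPC P) fun hPc => ?_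
  set K := pPrimeCore p G
  have hK : (Nat.card K).Coprime p := CF.Solv.pPrimeCore_coprime
  have hcomm : IsMulCommutative (P : Subgroup G) := IsCyclic.isMulCommutative
  have hPC : (P : Subgroup G) ≤ centralizer (K : Set G) := by
    refine hPc.trans (Normal.commutator_le_of_self_sup_commutative_eq_top ?_ hcomm)
    rw [eq_top_iff, ← sylow_sup_pResidual P, sup_comm]
    refine sup_le_sup_right (pResidual_le_iff'.2 fun x hx => ?_) _
    exact h.commute hK (le_normalizer_of_normal (mem_top x)) hx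
  set f := QuotientGroup.mk' K
  set L := (pCore p (G ⧸ K)).comap f with hL
  have hPL : (P : Subgroup G) ≤ L := by
    let P' := P.mapSurjective (QuotientGroup.mk'_surjective K)
    have h1 : pCore p (G ⧸ K) ≤ P' := CF.Solv.pCore_le_sylow P'
    intro x hx
    refine CF.Solv.centralizer_pCore_le CF.Solv.pPrimeCore_quotient_pPrimeCore ?_
    rw [mem_centralizer_iff]
    intro y hy
    obtain ⟨z, hz, rfl⟩ := h1 hy
    rw [← map_mul, ← map_mul, mul_comm_of_mem_isMulCommutative (P : Subgroup G) hz hx]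
  have hS := isSylowIn_of_le P hPL
  obtain ⟨j, hj⟩ : ∃ j, K.relIndex L = p ^ j := by
    rw [← CF.Solv.card_map_mk', CF.Solv.map_comap_mk']
    exact CF.Solv.pCore_isPGroup.exists_card_eq
  have hsup := hS.le_sup_of_relIndex (CF.Solv.le_comap_mk' K _) hj
  have hLN : L ≤ normalizer ((P : Subgroup G) : Set G) := by
    rw [← hsup]
    exact sup_le le_normalizer ((le_centralizer_iff.1 hPC).trans (centralizer_le_normalizer _))
  rw [← normalizer_eq_top_iff, eq_top_iff]
  intro g _
  obtain ⟨y, hy, n, hn, rfl⟩ := hS.frattini' (h := g) (le_normalizer_of_normal (mem_top g))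
  exact (normalizer _).mul_mem hy (hLN hn)

theorem Hy.dvd_of_dihedral (h : Hy p G) {H : Subgroup G} {n : ℕ} (hn : 3 ≤ n)
    (e : H ≃* DihedralGroup n) (h2 : p ≠ 2) : p ∣ n := by
  by_contra hd
  have : NeZero n := ⟨by omega⟩
  have h1 := h.ab H (by
    rw [Nat.card_congr e.toEquiv, DihedralGroup.nat_card, hp.out.dvd_mul]
    exact fun h' => h'.elim (fun h3 => h2 ((Nat.prime_dvd_prime_iff_eq hp.out Nat.prime_two).1 h3))
      hd)
  have h3 : DihedralGroup.r (1 : ZMod n) * DihedralGroup.sr 0 =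
      DihedralGroup.sr 0 * DihedralGroup.r 1 := by
    apply e.symm.injective
    rw [map_mul, map_mul, h1.is_comm.comm]
  simp only [DihedralGroup.r_mul_sr, DihedralGroup.sr_mul_r, zero_sub, zero_add,
    DihedralGroup.sr.injEq] at h3
  have h4 : ((2 : ℕ) : ZMod n) = 0 := by
    push_cast
    linear_combination -h3
  rw [ZMod.natCast_eq_zero_iff] at h4
  exact absurd (Nat.le_of_dvd two_pos h4) (by omega)

theorem Hy.npc_five (h : Hy 3 G) (h25 : ¬ 25 ∣ Nat.card G) : HasNormalPComplement 5 G := by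
  have : Fact (Nat.Prime 5) := ⟨by norm_num⟩
  have : Fact (Nat.Prime 3) := ⟨Nat.prime_three⟩
  refine frobenius_hasNPC' fun Q hQ hQb g hg _ => ?_
  obtain ⟨k, hk⟩ := hQ.exists_card_eq
  have hc : Nat.card Q = 5 := by
    obtain _ | _ | k := k
    · exact absurd (card_eq_one.1 hk) hQb
    · exact hk
    · refine absurd (Dvd.dvd.trans ?_ (card_subgroup_dvd_card Q)) h25
      rw [hk]; exact ⟨5 ^ k, by ring⟩
  obtain ⟨y, hy, z, hz, ⟨j, hj⟩, hz3, rfl, -⟩ :=
    exists_pPart_pPrimePart (p := 3) (isOfFinOrder_of_finite g)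
  refine (centralizer _).mul_mem ?_
    (h.commute (by rw [hc]; decide) (zpowers_le.2 hg hz) hz3)
  have hyn := zpowers_le.2 hg hy
  have : IsCyclic Q := isCyclic_of_prime_card hc
  have h1 : orderOf (Q.normalizerMonoidHom ⟨y, hyn⟩) ∣ 4 := by
    have := orderOf_dvd_natCard (Q.normalizerMonoidHom ⟨y, hyn⟩)
    rwa [IsCyclic.card_mulAut, hc] at this
  have h2 : orderOf (Q.normalizerMonoidHom ⟨y, hyn⟩) ∣ 3 ^ j := by
    rw [← hj, ← orderOf_mk y hyn]
    exact orderOf_map_dvd _ _
  have h3 := orderOf_eq_one_iff.1 (Nat.eq_one_of_dvd_coprimes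
    (Nat.Coprime.pow_right j (by decide : Nat.Coprime 4 3)) h1 h2)
  rw [← MonoidHom.mem_ker, normalizerMonoidHom_ker] at h3
  exact h3

theorem solvable_of_npc {q : ℕ} [Fact q.Prime] (h : HasNormalPComplement q G)
    (hs : Group.IsSolvable (pResidual q G)) : Group.IsSolvable G := by
  have h2 := (isPGroup_quotient_pResidual (p := q) (G := G)).isNilpotent
  exact CF.Bw.solvable_of_normal (pResidual q G)

theorem Hy.not_psl {F : Type} [Field F] [Fintype F]
    (h : Hy p (Matrix.ProjectiveSpecialLinearGroup (Fin 2) F)) (h2 : p ≠ 2)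
    (hq : ((Fintype.card F % 8 = 3 ∨ Fintype.card F % 8 = 5) ∧ 5 ≤ Fintype.card F) ∨
      (∃ n : ℕ, 2 ≤ n ∧ Fintype.card F = 2 ^ n))
    (hs : ∀ N : Subgroup (Matrix.ProjectiveSpecialLinearGroup (Fin 2) F), N.Normal → N ≠ ⊤ →
      N = ⊥) : False := by
  have hcard := CF.Classical.card_PSL_two (F := F)
  set q := Fintype.card F with hqd
  have hq4 : 4 ≤ q ∧ q ≠ 7 ∧ q ≠ 9 ∧ (q % 2 = 1 → 5 ≤ q) := by
    rcases hq with h | ⟨n, hn, h⟩
    · omega
    · obtain ⟨m, rfl⟩ := Nat.exists_eq_add_of_le hn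
      have : 0 < 2 ^ m := by positivity
      rw [pow_add] at h
      omega
  have hg : (q % 2 = 1 ∧ Nat.gcd 2 (q - 1) = 2) ∨ (q % 2 = 0 ∧ Nat.gcd 2 (q - 1) = 1) := by
    rcases Nat.mod_two_eq_zero_or_one q with h0 | h0
    · exact Or.inr ⟨h0, Nat.coprime_two_left.2 ⟨q / 2 - 1, by omega⟩⟩
    · exact Or.inl ⟨h0, Nat.gcd_eq_left ⟨q / 2, by omega⟩⟩
  obtain ⟨H, -, ⟨e⟩⟩ := Cfsg.Agent.S0811.result hqd.symm (by simp; omega)
  have h1 : p ∣ (q + 1) / Nat.gcd 2 (q - 1) :=
    h.dvd_of_dihedral (by rcases hg with ⟨h0, h1⟩ | ⟨h0, h1⟩ <;> rw [h1] <;> omega) e h2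
  by_cases h5 : q = 5 ∨ q = 11
  · have : Fact (Nat.Prime 5) := ⟨by norm_num⟩
    have hp3 : p = 3 := by
      have h6 : p ∣ 2 * 3 := by
        rcases h5 with h5 | h5 <;> rw [h5] at h1
        · exact h1.trans (by decide)
        · exact h1
      rcases (hp.out.dvd_mul).1 h6 with h7 | h7
      · exact absurd ((Nat.prime_dvd_prime_iff_eq hp.out Nat.prime_two).1 h7) h2
      · exact (Nat.prime_dvd_prime_iff_eq hp.out Nat.prime_three).1 h7
    subst hp3
    have hc : Nat.card (Matrix.ProjectiveSpecialLinearGroup (Fin 2) F) = 60 ∨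
        Nat.card (Matrix.ProjectiveSpecialLinearGroup (Fin 2) F) = 660 := by
      rcases h5 with h5 | h5 <;> rw [h5] at hcard <;> norm_num at hcard <;> omega
    have hn := h.npc_five (by rcases hc with hc | hc <;> rw [hc] <;> decide)
    by_cases ht : pResidual 5 (Matrix.ProjectiveSpecialLinearGroup (Fin 2) F) = ⊤
    · have := hasNPC_iff_not_dvd.1 hn
      rw [ht, card_top] at this
      rcases hc with hc | hc <;> rw [hc] at this <;> exact this (by decide)
    · obtain ⟨k, hk⟩ := (pResidual_eq_bot_iff.1 (hs _ inferInstance ht)).exists_card_eq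
      have h3 : 2 ∣ 5 ^ k := by rw [← hk]; rcases hc with hc | hc <;> rw [hc] <;> decide
      exact absurd (Nat.prime_two.dvd_of_dvd_pow h3) (by decide)
  · obtain ⟨H', -, ⟨e'⟩⟩ := Cfsg.Agent.S0812.result hqd.symm (by simp; omega)
    have h3 : p ∣ (q - 1) / Nat.gcd 2 (q - 1) := by
      refine h.dvd_of_dihedral ?_ e' h2
      rcases hg with ⟨h0, h1⟩ | ⟨h0, h1⟩ <;> rw [h1] <;> omega
    have h4 : p ∣ q + 1 := h1.trans (Nat.div_dvd_of_dvd (by
      rcases hg with ⟨h0, h1⟩ | ⟨h0, h1⟩ <;> rw [h1] <;> omega))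
    have h6 : p ∣ q - 1 := h3.trans (Nat.div_dvd_of_dvd (Nat.gcd_dvd_right _ _))
    have h7 := Nat.dvd_sub h4 h6
    rw [show q + 1 - (q - 1) = 2 by omega] at h7
    exact h2 ((Nat.prime_dvd_prime_iff_eq hp.out Nat.prime_two).1 h7)

theorem Hy.solvable (G : Type u) [Group G] [Finite G] : Hy p G → Group.IsSolvable G := by
  refine CF.Solv.group_induction (P := fun G _ _ => Hy p G → Group.IsSolvable G) ?_ G
  intro G _ _ ih h
  have : Fact (Nat.Prime 2) := ⟨Nat.prime_two⟩
  by_contra hns
  have hsub : ∀ K : Subgroup G, K ≠ ⊤ → Group.IsSolvable K := fun K hK =>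
    ih K (CF.Solv.card_lt_of_ne_top hK) (h.of_injective K.subtype K.subtype_injective)
  have hs : ∀ N : Subgroup G, N.Normal → N ≠ ⊤ → N = ⊥ := by
    intro N _ hN
    by_contra hb
    have := hsub N hN
    have := ih _ (CF.Solv.card_quotient_lt hb) (h.quotient N)
    exact hns (CF.Bw.solvable_of_normal N)
  obtain ⟨S⟩ : Nonempty (Sylow 2 G) := inferInstance
  have hev : 2 ∣ Nat.card G := by
    by_contra ho
    exact hns (CF.Hyp.isSolvable_of_odd (Nat.odd_iff.2 (by omega)))
  have h2 : p ≠ 2 := by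
    rintro rfl
    have hc := h.cyc S S.isPGroup'
    have hn := burnside_hasNPC S (hc.normalizer_le_centralizer
      ((Nat.minFac_eq_two_iff _).2 hev))
    have := h.ab _ (hasNPC_iff_not_dvd.1 hn)
    exact hns (solvable_of_npc hn (CF.Solv.isSolvable_of_isMulCommutative _))
  have hS : IsMulCommutative (S : Subgroup G) := h.ab _ fun hd => by
    obtain ⟨k, hk⟩ := S.isPGroup'.exists_card_eq
    rw [hk] at hd
    exact h2 ((Nat.prime_dvd_prime_iff_eq hp.out Nat.prime_two).1 (hp.out.dvd_of_dvd_pow hd))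
  have hO : oddCore G = ⊥ := by
    refine hs _ inferInstance fun ht => hns (CF.Hyp.isSolvable_of_odd ?_)
    have h3 : (Nat.card (oddCore G)).Coprime 2 := CF.Solv.pPrimeCore_coprime (G := G) (p := 2)
    rw [ht, card_top] at h3
    exact Nat.coprime_two_right.1 h3
  rcases Cfsg.Agent.S3188.result S hS (fun t ht => hsub _ fun htop => by
    have h1 : t ∈ center G := by
      rw [mem_center_iff]
      intro g
      exact (mem_centralizer_singleton_iff.1 (show g ∈ centralizer {t} by
        rw [htop]; exact mem_top g))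
    have h3 : center G = ⊥ := hs _ inferInstance fun hc => hns (by
      have : IsMulCommutative G := ⟨⟨fun a b => (mem_center_iff.1 (hc ▸ mem_top b) a)⟩⟩
      exact CF.Solv.isSolvable_of_isMulCommutative G)
    rw [h3, mem_bot] at h1
    rw [h1, orderOf_one] at ht
    exact absurd ht (by decide)) with h' | ⟨F, _, _, hq, N, hN, ⟨e⟩, hC⟩
  · exact hns h'
  let e0 : G ≃* G ⧸ oddCore G := ((QuotientGroup.quotientMulEquivOfEq hO).trans
    QuotientGroup.quotientBot).symm
  have hNt : N = ⊤ := by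
    by_contra hne
    have h1 : N.comap e0.toMonoidHom = ⊥ := hs _ inferInstance fun ht => hne (by
      rw [← map_comap_eq_self_of_surjective (f := e0.toMonoidHom) e0.surjective N, ht,
        map_top_of_surjective _ e0.surjective])
    have h3 : N = ⊥ := by
      rw [← map_comap_eq_self_of_surjective (f := e0.toMonoidHom) e0.surjective N, h1,
        Subgroup.map_bot]
    have h4 : ∀ x : G ⧸ oddCore G, x = 1 := fun x => by
      rw [← mem_bot, ← hC, h3, mem_centralizer_iff]
      intro y hy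
      rw [SetLike.mem_coe, mem_bot] at hy
      rw [hy, one_mul, mul_one]
    have : Subsingleton G := ⟨fun a b => e0.injective (by rw [h4 (e0 a), h4 (e0 b)])⟩
    exact hns inferInstance
  subst hNt
  let e1 := (e0.trans topEquiv.symm).trans e
  refine (h.of_injective e1.symm.toMonoidHom e1.symm.injective).not_psl h2 hq fun M _ hM => ?_
  have h1 : M.comap e1.toMonoidHom = ⊥ := hs _ inferInstance fun ht => hM (by
    rw [← map_comap_eq_self_of_surjective (f := e1.toMonoidHom) e1.surjective M, ht,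
      map_top_of_surjective _ e1.surjective])
  rw [← map_comap_eq_self_of_surjective (f := e1.toMonoidHom) e1.surjective M, h1,
    Subgroup.map_bot]

end CF.Cy
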