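import Mathlib

/-! Abelian 2-groups with commuting automorphisms of orders 2 and 3. -/

namespace CF.Mx23.Hm

open Subgroup

variable {Q : Type*} [CommGroup Q] [Finite Q]

omit [Finite Q] in
theorem inv_unique {x a b : Q} (ha : a ∈ zpowers x) (hb : b ∈ zpowers x) [Finite (zpowers x)]
    (ha2 : a ^ 2 = 1) (hb2 : b ^ 2 = 1) (ha1 : a ≠ 1) (hb1 : b ≠ 1) : a = b := by
  classical
  by_contra hne
  haveI : Fintype (zpowers x) := Fintype.ofFinite _
  have h := IsCyclic.card_pow_eq_one_le (α := zpowers x) (n := 2) (by norm_num)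
  have hs : ({1, ⟨a, ha⟩, ⟨b, hb⟩} : Finset (zpowers x)) ⊆
      Finset.univ.filter (fun y : zpowers x => y ^ 2 = 1) := by
    intro y hy
    simp only [Finset.mem_insert, Finset.mem_singleton] at hy
    simp only [Finset.mem_filter, Finset.mem_univ, true_and]
    rcases hy with rfl | rfl | rfl
    · simp
    · exact Subtype.ext ha2
    · exact Subtype.ext hb2
  have h3 : ({1, ⟨a, ha⟩, ⟨b, hb⟩} : Finset (zpowers x)).card = 3 := by
    rw [Finset.card_eq_three]
    refine ⟨_, _, _, ?_, ?_, ?_, rfl⟩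
    · intro e; exact ha1 (congrArg Subtype.val e).symm
    · intro e; exact hb1 (congrArg Subtype.val e).symm
    · intro e; exact hne (congrArg Subtype.val e)
  have := Finset.card_le_card hs
  omega

theorem exists_inv (hQ : IsPGroup 2 Q) {y : Q} (hy : y ≠ 1) :
    ∃ k : ℕ, y ^ k ≠ 1 ∧ (y ^ k) ^ 2 = 1 := by
  obtain ⟨n, hn⟩ := hQ y
  induction n with
  | zero => exact absurd (by simpa using hn) hy
  | succ n ih =>
    by_cases h : y ^ 2 ^ n = 1
    · exact ih h
    · exact ⟨2 ^ n, h, by rw [← pow_mul, ← pow_succ]; exact hn⟩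

theorem card_ker_le (n : ℕ) :
    Nat.card (powMonoidHom (2 ^ n) : Q →* Q).ker ≤ Nat.card (powMonoidHom 2 : Q →* Q).ker ^ n := by
  induction n with
  | zero =>
    have : (powMonoidHom (2 ^ 0) : Q →* Q).ker = ⊥ := by
      ext x; simp [MonoidHom.mem_ker]
    rw [this]; simp
  | succ n ih =>
    set K := (powMonoidHom (2 ^ (n + 1)) : Q →* Q).ker with hK
    let f : K →* (powMonoidHom 2 : Q →* Q).ker :=
      ((powMonoidHom (2 ^ n) : Q →* Q).comp K.subtype).codRestrict _ (by
        intro x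
        have hx : (x : Q) ^ 2 ^ (n + 1) = 1 := x.2
        show ((x : Q) ^ 2 ^ n) ^ 2 = 1
        rw [← pow_mul, ← pow_succ]; exact hx)
    have h1 : Nat.card K = Nat.card f.ker * Nat.card f.range := by
      rw [← f.ker.card_mul_index, index_ker]
    have h2 : Nat.card f.range ≤ Nat.card (powMonoidHom 2 : Q →* Q).ker :=
      Nat.card_le_card_of_injective _ f.range.subtype_injective
    have h3 : Nat.card f.ker ≤ Nat.card (powMonoidHom (2 ^ n) : Q →* Q).ker := by
      refine Nat.card_le_card_of_injective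
        (fun x : f.ker => (⟨((x : K) : Q), congrArg Subtype.val x.2⟩ :
          (powMonoidHom (2 ^ n) : Q →* Q).ker)) ?_
      intro a b h
      have h' := congrArg Subtype.val h
      exact Subtype.ext (Subtype.ext h')
    rw [h1, pow_succ]
    exact Nat.mul_le_mul (h3.trans ih) h2

theorem homocyclic (hQ : IsPGroup 2 Q) (ρ : MulAut Q) (hfp : ∀ x, ρ x = x → x = 1)
    (h4 : Nat.card (powMonoidHom 2 : Q →* Q).ker = 4) :
    ∃ n : ℕ, 1 ≤ n ∧ Nonempty (Q ≃* Multiplicative (ZMod (2 ^ n)) × Multiplicative (ZMod (2 ^ n))) := by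
  haveI : Fact (Nat.Prime 2) := ⟨Nat.prime_two⟩
  obtain ⟨x, hx⟩ := Monoid.exists_orderOf_eq_exponent (G := Q) Monoid.ExponentExists.of_finite
  obtain ⟨n, hn⟩ := IsPGroup.iff_orderOf.1 hQ x
  have hall : ∀ y : Q, y ^ 2 ^ n = 1 := by
    intro y; rw [← hn, hx]; exact Monoid.pow_exponent_eq_one y
  have hcard : Nat.card Q ≤ 4 ^ n := by
    have h := card_ker_le (Q := Q) n
    have : (powMonoidHom (2 ^ n) : Q →* Q).ker = ⊤ := by
      ext y; simpa [MonoidHom.mem_ker] using hall y
    rwa [this, card_top, h4] at h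
  have hn1 : 1 ≤ n := by
    by_contra h0
    have : n = 0 := by omega
    subst this
    have h1 := Nat.card_le_card_of_injective _ (powMonoidHom 2 : Q →* Q).ker.subtype_injective
    rw [h4] at h1; omega
  have hd : zpowers x ⊓ zpowers (ρ x) = ⊥ := by
    rw [eq_bot_iff]
    intro y hy
    by_contra hy1
    obtain ⟨k, hk1, hk2⟩ := exists_inv hQ (y := y) hy1
    have hz := pow_mem hy k
    obtain ⟨j, hj⟩ := mem_zpowers_iff.1 (mem_inf.1 hz).2
    have hj' : ρ (x ^ j) = y ^ k := by rw [map_zpow]; exact hj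
    have h2 : (x ^ j) ^ 2 = 1 := ρ.injective (by rw [map_pow, hj', hk2, map_one])
    have h1 : x ^ j ≠ 1 := fun e => hk1 (by rw [← hj', e, map_one])
    have := inv_unique (zpow_mem (mem_zpowers x) j) (mem_inf.1 hz).1 h2 hk2 h1 hk1
    exact hk1 (hfp _ (by rw [← this, hj', this]))
  let φ : zpowers x × zpowers (ρ x) →* Q := (zpowers x).subtype.coprod (zpowers (ρ x)).subtype
  have hinj : Function.Injective φ := by
    rw [injective_iff_map_eq_one]
    rintro ⟨a, b⟩ hab
    have hab' : (a : Q) * b = 1 := hab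
    have ha : (a : Q) ∈ zpowers x ⊓ zpowers (ρ x) := by
      refine mem_inf.2 ⟨a.2, ?_⟩
      rw [eq_inv_of_mul_eq_one_left hab']; exact inv_mem b.2
    rw [hd, mem_bot] at ha
    rw [ha, one_mul] at hab'
    exact Prod.ext (Subtype.ext ha) (Subtype.ext hab')
  have c1 : Nat.card (zpowers x) = 2 ^ n := by rw [Nat.card_zpowers, hn]
  have c2 : Nat.card (zpowers (ρ x)) = 2 ^ n := by
    rw [Nat.card_zpowers, ρ.orderOf_eq, hn]
  have hbij : Function.Bijective φ := by
    refine (Nat.bijective_iff_injective_and_card φ).2 ⟨hinj, le_antisymm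
      (Nat.card_le_card_of_injective _ hinj) ?_⟩
    rw [Nat.card_prod, c1, c2, ← mul_pow]; exact hcard
  haveI : NeZero (2 ^ n) := ⟨by positivity⟩
  have e1 : zpowers x ≃* Multiplicative (ZMod (2 ^ n)) :=
    mulEquivOfCyclicCardEq (by rw [c1]; simp)
  have e2 : zpowers (ρ x) ≃* Multiplicative (ZMod (2 ^ n)) :=
    mulEquivOfCyclicCardEq (by rw [c2]; simp)
  exact ⟨n, hn1, ⟨(MulEquiv.ofBijective φ hbij).symm.trans (e1.prodCongr e2)⟩⟩

theorem abel_case (hQ : IsPGroup 2 Q) (α ρ : MulAut Q) (hα : ∀ x, α (α x) = x)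
    (hc : ∀ x, α (ρ x) = ρ (α x)) (V : Subgroup Q) (hV : ∀ x, x ∈ V ↔ α x = x)
    (hcard : Nat.card V = 4) (hV2 : ∀ v ∈ V, v ^ 2 = 1) (hfp : ∀ v ∈ V, ρ v = v → v = 1) :
    (Nat.card Q = 16 ∧ ∀ x : Q, x ^ 2 = 1) ∨
    ∃ n : ℕ, 1 ≤ n ∧ Nonempty (Q ≃* Multiplicative (ZMod (2 ^ n)) × Multiplicative (ZMod (2 ^ n))) := by
  have hN : ∀ x, x * α x ∈ V := fun x => (hV _).2 (by rw [map_mul, hα, mul_comm])
  have hinv : ∀ y : Q, y ^ 2 = 1 → y⁻¹ = y := fun y h =>
    inv_eq_of_mul_eq_one_right (by rw [← pow_two]; exact h)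
  have hfp' : ∀ x, ρ x = x → x = 1 := by
    intro x hx
    by_contra hx1
    obtain ⟨k, hk1, hk2⟩ := exists_inv hQ hx1
    have hy : ρ (x ^ k) = x ^ k := by rw [map_pow, hx]
    have h1 := hfp _ (hN (x ^ k)) (by rw [map_mul, ← hc, hy])
    have h2 : α (x ^ k) = x ^ k := by rw [eq_inv_of_mul_eq_one_right h1, hinv _ hk2]
    exact hk1 (hfp _ ((hV _).2 h2) hy)
  set W := (powMonoidHom 2 : Q →* Q).ker with hW
  have hmW : ∀ x, x ∈ W ↔ x ^ 2 = 1 := fun x => Iff.rfl
  let g : Q →* Q := MonoidHom.id Q * α.toMonoidHom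
  have hg : ∀ x, g x = x * α x := fun x => rfl
  let f : W →* Q := g.comp W.subtype
  have hVW : V ≤ W := fun v hv => hV2 v hv
  have hker : f.ker = V.subgroupOf W := by
    ext w
    rw [MonoidHom.mem_ker, mem_subgroupOf, hV]
    show (w : Q) * α w = 1 ↔ _
    constructor
    · intro h; rw [eq_inv_of_mul_eq_one_right h, hinv _ w.2]
    · intro h; rw [h, ← pow_two]; exact w.2
  have h1 : Nat.card W = 4 * Nat.card f.range := by
    rw [← f.ker.card_mul_index, index_ker, hker, Nat.card_congr (subgroupOfEquivOfLe hVW).toEquiv,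
      hcard]
  have hrV : f.range ≤ V := by
    rintro _ ⟨w, rfl⟩; exact hN w
  by_cases hb : f.range = ⊥
  · right
    refine homocyclic hQ ρ hfp' ?_
    rw [← hW, h1, hb]; simp
  · left
    have hr : f.range = V := by
      obtain ⟨⟨a, ha⟩, ha1⟩ := (ne_bot_iff_exists_ne_one).1 hb
      have ha1' : a ≠ 1 := fun e => ha1 (Subtype.ext e)
      have hρa : ρ a ∈ f.range := by
        obtain ⟨w, rfl⟩ := ha
        refine ⟨⟨ρ w, ?_⟩, ?_⟩
        · rw [hmW, ← map_pow, show (w : Q) ^ 2 = 1 from w.2, map_one]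
        · show ρ w * α (ρ w) = ρ (w * α w)
          rw [map_mul, hc]
      have hne : ρ a ≠ a := fun e => ha1' (hfp' _ e)
      have hne1 : ρ a ≠ 1 := fun e => ha1' (ρ.injective (by rw [e, map_one]))
      refine eq_of_le_of_card_ge hrV ?_
      have hdv : Nat.card f.range ∣ 4 := hcard ▸ card_dvd_of_le hrV
      have h3 : 3 ≤ Nat.card f.range := by
        classical
        haveI : Fintype f.range := Fintype.ofFinite _
        have h3 : ({1, ⟨a, ha⟩, ⟨ρ a, hρa⟩} : Finset f.range).card = 3 := by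
          rw [Finset.card_eq_three]
          refine ⟨_, _, _, ?_, ?_, ?_, rfl⟩
          · intro e; exact ha1' (congrArg Subtype.val e).symm
          · intro e; exact hne1 (congrArg Subtype.val e).symm
          · intro e; exact hne (congrArg Subtype.val e).symm
        rw [Nat.card_eq_fintype_card, ← h3]; exact Finset.card_le_univ _
      rw [hcard]
      have := Nat.le_of_dvd (by norm_num) hdv
      interval_cases h : Nat.card f.range <;> omega
    have hlift : ∀ v ∈ V, ∃ u : Q, u ^ 2 = 1 ∧ u * α u = v := by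
      intro v hv
      rw [← hr] at hv
      obtain ⟨w, hw⟩ := hv
      exact ⟨w, w.2, hw⟩
    have hall : ∀ x : Q, x ^ 2 = 1 := by
      by_contra hne
      push Not at hne
      obtain ⟨x0, hx0⟩ := hne
      obtain ⟨k, hk1, hk2⟩ := exists_inv hQ hx0
      have e : (x0 ^ 2) ^ k = (x0 ^ k) ^ 2 := by rw [← pow_mul, ← pow_mul, mul_comm]
      rw [e] at hk1 hk2
      set x := x0 ^ k
      obtain ⟨u, hu2, hu⟩ := hlift _ (hN x)
      have hx' : α (x * u⁻¹) = (x * u⁻¹)⁻¹ := by
        apply eq_inv_of_mul_eq_one_right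
        rw [map_mul, map_inv, mul_mul_mul_comm, ← mul_inv, hu, mul_inv_cancel]
      have hsq : (x * u⁻¹) ^ 2 = x ^ 2 := by rw [mul_pow, inv_pow, hu2, inv_one, mul_one]
      set y := x * u⁻¹
      have hyV : y ^ 2 ∈ V := by
        rw [hV, map_pow, hx', inv_pow, hsq, hinv _ hk2]
      obtain ⟨w, hw2, hw⟩ := hlift _ hyV
      have : y * w ∈ V := by
        rw [hV, map_mul, hx', eq_inv_mul_of_mul_eq hw, hinv _ hw2, pow_two, mul_comm w,
          ← mul_assoc, ← mul_assoc, inv_mul_cancel, one_mul]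
      have h2 := hV2 _ this
      rw [mul_pow, hw2, mul_one, hsq] at h2
      exact hk1 h2
    refine ⟨?_, hall⟩
    have : W = ⊤ := by ext y; simpa [hmW] using hall y
    rw [hr, hcard, this, card_top] at h1
    exact h1

end CF.Mx23.Hm
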